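import Cfsg.Agent.Vanishing.OneClass
import Cfsg.Agent.Solvable.PGroupBasic

/-!
# Vanishing elements of order divisible by `p` all of the same order

If every such element is a `p`-element and no such element has a `p`-th power of the same kind,
then in a solvable group a Sylow `p`-subgroup has order at most `p` modulo the `p`-core.
-/

set_option autoImplicit false
set_option linter.style.haveILetI false
set_option linter.unusedSectionVars false

namespace CfsgLib.Vanishing

open scoped commutatorElement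
open CfsgLib.Char
open CfsgLib.Char.DegreesPrime (exists_over)

universe u

variable {G : Type u} [Group G] [Finite G] {p : ℕ} [Fact p.Prime]

/-- A lift of a `p`-element that is a `p`-element. -/
theorem exists_p_lift {H : Type*} [Group H] [Finite H] (f : G →* H) (g : G)
    (h : ∃ j, orderOf (f g) = p ^ j) : ∃ k : ℕ, f (g ^ k) = f g ∧ ∃ i, orderOf (g ^ k) = p ^ i := by
  have hp : p.Prime := Fact.out
  obtain ⟨j, hj⟩ := h
  obtain ⟨a, m, hm, hord⟩ := Nat.exists_eq_pow_mul_and_not_dvd (orderOf_pos g).ne' p hp.ne_one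
  have hc : m.Coprime (orderOf (f g)) := by
    rw [hj]; exact Nat.Coprime.pow_right j ((hp.coprime_iff_not_dvd.2 hm).symm)
  obtain ⟨t, ht⟩ := exists_pow_eq_self_of_coprime hc
  refine ⟨m * t, ?_, ?_⟩
  · rw [map_pow, pow_mul, ht]
  · have h1 : (g ^ (m * t)) ^ p ^ a = 1 := by
      rw [← pow_mul, show m * t * p ^ a = p ^ a * m * t by ring, pow_mul, ← hord, pow_orderOf_eq_one,
        one_pow]
    obtain ⟨i, -, hi⟩ := (Nat.dvd_prime_pow hp).1 (orderOf_dvd_of_pow_eq_one h1)
    exact ⟨i, hi⟩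

/-- Without vanishing `p`-elements the Sylow `p`-subgroup is normal. -/
theorem le_pCore_of_no_p_element (n : ℕ) : ∀ (G : Type u) [Group G] [Finite G], Nat.card G = n →
    Group.IsSolvable G → (∀ x : G, PV p x → (∃ i, orderOf x = p ^ i) → False) →
    ∀ P : Sylow p G, (P : Subgroup G) ≤ Cfsg.pCore p G := by
  induction n using Nat.strong_induction_on with | _ n ih =>
  intro G _ _ hn hsolv h P
  classical
  subst hn
  have hp : p.Prime := Fact.out
  haveI hOn : (Cfsg.pCore p G).Normal := (CfsgLib.Solvable.pCore_spec p).1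
  have hinh : ∀ M : Subgroup G, [M.Normal] → ∀ x : G ⧸ M, PV p x → (∃ i, orderOf x = p ^ i) → False := by
    intro M _ x hx hxi
    obtain ⟨g, rfl⟩ := QuotientGroup.mk'_surjective M x
    obtain ⟨k, hk, hi⟩ := exists_p_lift (QuotientGroup.mk' M) g hxi
    exact h (g ^ k) (PV.of_quotient M (by rw [← QuotientGroup.mk'_apply, hk]; exact hx)) hi
  have hquot : ∀ M : Subgroup G, [M.Normal] → M ≠ ⊥ → Nat.card (G ⧸ M) < Nat.card G := by
    intro M _ hM
    rw [← Subgroup.index_eq_card, ← Subgroup.card_mul_index M]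
    exact lt_mul_of_one_lt_left (Nat.pos_of_ne_zero Subgroup.index_ne_zero_of_finite)
      ((Subgroup.one_lt_card_iff_ne_bot _).2 hM)
  by_cases hO : Cfsg.pCore p G ≠ ⊥
  · have hs := QuotientGroup.mk'_surjective (Cfsg.pCore p G)
    have h1 := ih _ (hquot _ hO) (G ⧸ Cfsg.pCore p G) rfl inferInstance (hinh _) (P.mapSurjective hs)
    rw [Sylow.coe_mapSurjective, Subgroup.map_le_iff_le_comap] at h1
    refine h1.trans (CfsgLib.Solvable.le_pCore p inferInstance ?_)
    exact (CfsgLib.Solvable.pCore_spec p).2.comap_of_ker_isPGroup _ (by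
      rw [QuotientGroup.ker_mk']; exact (CfsgLib.Solvable.pCore_spec p).2)
  push Not at hO
  rw [hO]
  by_cases hG : Subsingleton G
  · rw [Subsingleton.elim (P : Subgroup G) ⊥]
  haveI : Nontrivial G := not_subsingleton_iff_nontrivial.1 hG
  obtain ⟨N, hNn, hN1, -, hNab, -, r, hr, -, hNr⟩ := CfsgLib.Solvable.exists_normal_elementary_le
    (G := G) (N := ⊤) top_ne_bot inferInstance
  haveI := hNn
  have hrp : r ≠ p := fun h => hN1 (by
    have := CfsgLib.Solvable.le_pCore p hNn (h ▸ hNr)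
    rwa [hO, le_bot_iff] at this)
  have hcop : (Nat.card N).Coprime p := by
    haveI := Fact.mk hr
    obtain ⟨k, hk⟩ := IsPGroup.iff_card.1 hNr
    rw [hk]
    exact Nat.Coprime.pow_left k ((Nat.coprime_primes hr hp).2 hrp)
  set π := QuotientGroup.mk' N with hπdef
  have hπ : Function.Surjective π := QuotientGroup.mk'_surjective N
  have hPN : ∀ x ∈ (P : Subgroup G), x ∈ N → x = 1 := by
    intro x hx hxN
    obtain ⟨k, hk⟩ := IsPGroup.iff_orderOf.1 P.isPGroup' ⟨x, hx⟩
    rw [Subgroup.orderOf_mk] at hk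
    refine orderOf_eq_one_iff.1 (Nat.eq_one_of_dvd_coprimes (hcop.pow_right k) ?_ (dvd_of_eq hk))
    simpa using orderOf_dvd_natCard (⟨x, hxN⟩ : N)
  by_cases hY1 : Cfsg.pCore p (G ⧸ N) = ⊥
  · have h1 := ih _ (hquot N hN1) (G ⧸ N) rfl inferInstance (hinh N) (P.mapSurjective hπ)
    rw [hY1, le_bot_iff, Sylow.coe_mapSurjective, Subgroup.map_eq_bot_iff, QuotientGroup.ker_mk'] at h1
    exact fun x hx => Subgroup.mem_bot.2 (hPN x hx (h1 hx))
  haveI : (Cfsg.pCore p (G ⧸ N)).Normal := (CfsgLib.Solvable.pCore_spec p).1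
  obtain ⟨A, hAn, hA1, hAY, hAc, -, -⟩ :=
    CfsgLib.Solvable.exists_normal_elementary_le (G := G ⧸ N) (N := Cfsg.pCore p (G ⧸ N)) hY1 inferInstance
  haveI := hAn
  have hAp : IsPGroup p A := (CfsgLib.Solvable.pCore_spec p).2.to_le hAY
  obtain ⟨z, hz, hz1⟩ := (Subgroup.bot_or_exists_ne_one A).resolve_left hA1
  obtain ⟨y, hy, rfl⟩ : ∃ y ∈ (P : Subgroup G), π y = z := by
    have h2 := (hAY.trans (CfsgLib.Fitting.pCore_le_sylow (P.mapSurjective hπ))) hz
    rwa [Sylow.coe_mapSurjective] at h2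
  exfalso
  haveI : (A.comap π).Normal := hAn.comap π
  refine h y (pv_of_section hO N (A.comap π) (fun x hx => ?_) (fun a ha b hb =>
    congrArg Subtype.val (hNab.is_comm.comm ⟨a, ha⟩ ⟨b, hb⟩)) hcop (fun x hx => ?_)
      (fun x hx w hw => ?_) hz fun hyN => hz1 ((QuotientGroup.eq_one_iff y).2 hyN)) ?_
  · rw [Subgroup.mem_comap, hπdef, QuotientGroup.mk'_apply, (QuotientGroup.eq_one_iff x).2 hx]
    exact one_mem A
  · obtain ⟨j, hj⟩ := hAp ⟨π x, hx⟩
    exact ⟨j, (QuotientGroup.eq_one_iff _).1 (by simpa [hπdef] using congrArg Subtype.val hj)⟩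
  · rw [← QuotientGroup.eq_one_iff, ← QuotientGroup.mk'_apply, ← hπdef, map_commutatorElement,
      commutatorElement_eq_one_iff_mul_comm]
    exact congrArg Subtype.val (hAc.is_comm.comm ⟨π x, hx⟩ ⟨π w, hw⟩)
  · obtain ⟨k, hk⟩ := IsPGroup.iff_orderOf.1 P.isPGroup' ⟨y, hy⟩
    exact ⟨k, by rwa [Subgroup.orderOf_mk] at hk⟩

/-- The bound. -/
theorem card_le_of_p_elements (n : ℕ) : ∀ (G : Type u) [Group G] [Finite G], Nat.card G = n →
    Group.IsSolvable G → (∀ x : G, PV p x → ∃ i, orderOf x = p ^ i) →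
    (∀ x : G, PV p x → ¬ PV p (x ^ p)) →
    ∀ P : Sylow p G, Nat.card (P : Subgroup G) ≤ p * Nat.card (Cfsg.pCore p G) := by
  induction n using Nat.strong_induction_on with | _ n ih =>
  intro G _ _ hn hsolv hI hII P
  classical
  subst hn
  have hp : p.Prime := Fact.out
  haveI hOn : (Cfsg.pCore p G).Normal := (CfsgLib.Solvable.pCore_spec p).1
  have hinh1 : ∀ M : Subgroup G, [M.Normal] → ∀ x : G ⧸ M, PV p x → ∃ i, orderOf x = p ^ i := by
    intro M _ x hx
    obtain ⟨g, rfl⟩ := QuotientGroup.mk'_surjective M x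
    obtain ⟨i, hi⟩ := hI g (PV.of_quotient M hx)
    obtain ⟨j, -, hj⟩ := (Nat.dvd_prime_pow hp).1 (hi ▸ orderOf_map_dvd (QuotientGroup.mk' M) g)
    exact ⟨j, hj⟩
  have hinh2 : ∀ M : Subgroup G, [M.Normal] → ∀ x : G ⧸ M, PV p x → ¬ PV p (x ^ p) := by
    intro M _ x hx hxp
    obtain ⟨g, rfl⟩ := QuotientGroup.mk'_surjective M x
    exact hII g (PV.of_quotient M hx) (PV.of_quotient M (by rw [QuotientGroup.mk_pow]; exact hxp))
  have hquot : ∀ M : Subgroup G, [M.Normal] → M ≠ ⊥ → Nat.card (G ⧸ M) < Nat.card G := by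
    intro M _ hM
    rw [← Subgroup.index_eq_card, ← Subgroup.card_mul_index M]
    exact lt_mul_of_one_lt_left (Nat.pos_of_ne_zero Subgroup.index_ne_zero_of_finite)
      ((Subgroup.one_lt_card_iff_ne_bot _).2 hM)
  have hOp : IsPGroup p (Cfsg.pCore p G) := (CfsgLib.Solvable.pCore_spec p).2
  by_cases hO : Cfsg.pCore p G ≠ ⊥
  · have hs := QuotientGroup.mk'_surjective (Cfsg.pCore p G)
    have h1 := ih _ (hquot _ hO) (G ⧸ Cfsg.pCore p G) rfl inferInstance (hinh1 _) (hinh2 _)
      (P.mapSurjective hs)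
    have hO1 : Cfsg.pCore p (G ⧸ Cfsg.pCore p G) = ⊥ := by
      set π := QuotientGroup.mk' (Cfsg.pCore p G)
      haveI : (Cfsg.pCore p (G ⧸ Cfsg.pCore p G)).Normal := (CfsgLib.Solvable.pCore_spec p).1
      have hpre : IsPGroup p ((Cfsg.pCore p (G ⧸ Cfsg.pCore p G)).comap π) :=
        (CfsgLib.Solvable.pCore_spec p).2.comap_of_ker_isPGroup π (by
          rw [QuotientGroup.ker_mk']; exact hOp)
      have h := CfsgLib.Solvable.le_pCore p inferInstance hpre
      rw [← Subgroup.map_comap_eq_self_of_surjective (QuotientGroup.mk'_surjective _)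
        (Cfsg.pCore p (G ⧸ Cfsg.pCore p G)), Subgroup.map_eq_bot_iff, QuotientGroup.ker_mk']
      exact h
    rw [hO1, Subgroup.card_bot, mul_one, Sylow.coe_mapSurjective] at h1
    rw [card_sylow_eq P (Cfsg.pCore p G), inf_eq_left.2 (CfsgLib.Fitting.pCore_le_sylow P), mul_comm]
    exact Nat.mul_le_mul_right _ h1
  push Not at hO
  rw [hO, Subgroup.card_bot, mul_one]
  by_cases hG : Subsingleton G
  · rw [Nat.card_of_subsingleton (1 : (P : Subgroup G))]; exact hp.one_lt.le
  haveI : Nontrivial G := not_subsingleton_iff_nontrivial.1 hG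
  obtain ⟨N, hNn, hN1, -, hNab, -, r, hr, -, hNr⟩ := CfsgLib.Solvable.exists_normal_elementary_le
    (G := G) (N := ⊤) top_ne_bot inferInstance
  haveI := hNn
  have hrp : r ≠ p := fun h => hN1 (by
    have := CfsgLib.Solvable.le_pCore p hNn (h ▸ hNr)
    rwa [hO, le_bot_iff] at this)
  have hcop : (Nat.card N).Coprime p := by
    haveI := Fact.mk hr
    obtain ⟨k, hk⟩ := IsPGroup.iff_card.1 hNr
    rw [hk]
    exact Nat.Coprime.pow_left k ((Nat.coprime_primes hr hp).2 hrp)
  set π := QuotientGroup.mk' N with hπdef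
  have hπ : Function.Surjective π := QuotientGroup.mk'_surjective N
  have hπ1 : ∀ x ∈ N, π x = 1 := fun x hx => (QuotientGroup.eq_one_iff x).2 hx
  have hPN : ∀ x ∈ (P : Subgroup G), x ∈ N → x = 1 := by
    intro x hx hxN
    obtain ⟨k, hk⟩ := IsPGroup.iff_orderOf.1 P.isPGroup' ⟨x, hx⟩
    rw [Subgroup.orderOf_mk] at hk
    refine orderOf_eq_one_iff.1 (Nat.eq_one_of_dvd_coprimes (hcop.pow_right k) ?_ (dvd_of_eq hk))
    simpa using orderOf_dvd_natCard (⟨x, hxN⟩ : N)
  set Q := (P : Subgroup G).map π with hQ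
  have hQp : IsPGroup p Q := P.isPGroup'.map π
  have hcardQ : Nat.card (P : Subgroup G) = Nat.card Q := by
    refine Nat.card_congr (Equiv.ofBijective (π.subgroupMap (P : Subgroup G))
      ⟨fun a b hab => Subtype.ext (inv_mul_eq_one.1 (hPN _
        ((P : Subgroup G).mul_mem ((P : Subgroup G).inv_mem a.2) b.2)
        (QuotientGroup.eq.1 (congrArg Subtype.val hab)))), π.subgroupMap_surjective _⟩)
  rw [hcardQ]
  set Y := Cfsg.pCore p (G ⧸ N) with hY
  haveI hYn : Y.Normal := (CfsgLib.Solvable.pCore_spec p).1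
  have hYp : IsPGroup p Y := (CfsgLib.Solvable.pCore_spec p).2
  have hYQ : Y ≤ Q :=
    (CfsgLib.Fitting.pCore_le_sylow (P.mapSurjective hπ)).trans (Sylow.coe_mapSurjective _ _).le
  by_cases hY1 : Y = ⊥
  · have h1 := ih _ (hquot N hN1) (G ⧸ N) rfl inferInstance (hinh1 N) (hinh2 N) (P.mapSurjective hπ)
    rw [← hY, hY1, Subgroup.card_bot, mul_one, Sylow.coe_mapSurjective] at h1
    exact h1
  -- elements with a power in an abelian normal subgroup of the quotient inside its `p`-core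
  have hsec : ∀ A : Subgroup (G ⧸ N), A.Normal → A ≤ Y → IsMulCommutative A →
      ∀ g : G, (∃ k : ℕ, π g ^ k ∈ A ∧ π g ^ k ≠ 1) → PV p g := by
    intro A hA hAY hAc g hg
    obtain ⟨k, hk, hk1⟩ := hg
    have hAp := hYp.to_le hAY
    haveI : (A.comap π).Normal := hA.comap π
    have hmem : g ^ k ∈ A.comap π := by rw [Subgroup.mem_comap, map_pow]; exact hk
    have hnot : g ^ k ∉ N := fun h => hk1 (by rw [← map_pow, hπ1 _ h])
    have e1 : N ≤ A.comap π := fun x hx => by rw [Subgroup.mem_comap, hπ1 x hx]; exact one_mem A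
    have e2 : ∀ a ∈ N, ∀ b ∈ N, a * b = b * a := fun a ha b hb =>
      congrArg Subtype.val (hNab.is_comm.comm ⟨a, ha⟩ ⟨b, hb⟩)
    have e3 : ∀ x ∈ A.comap π, ∃ j, x ^ p ^ j ∈ N := fun x hx => by
      obtain ⟨j, hj⟩ := hAp ⟨π x, hx⟩
      exact ⟨j, (QuotientGroup.eq_one_iff _).1 (by simpa [hπdef] using congrArg Subtype.val hj)⟩
    have e4 : ∀ x ∈ A.comap π, ∀ y ∈ A.comap π, ⁅x, y⁆ ∈ N := fun x hx y hy => by
      rw [← QuotientGroup.eq_one_iff, ← QuotientGroup.mk'_apply, ← hπdef, map_commutatorElement,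
        commutatorElement_eq_one_iff_mul_comm]
      exact congrArg Subtype.val (hAc.is_comm.comm ⟨π x, hx⟩ ⟨π y, hy⟩)
    obtain ⟨χ, hχ, hvan⟩ := exists_vanishing_powers hO N (A.comap π) e1 e2 hcop e3 e4
    exact ⟨(pv_of_section hO N (A.comap π) e1 e2 hcop e3 e4 hmem hnot).1.trans (orderOf_pow_dvd k),
      χ, hχ, hvan g ⟨k, hmem, hnot⟩⟩
  -- lifts in `P`
  have hlift : ∀ z ∈ Q, ∃ x ∈ (P : Subgroup G), π x = z := fun z hz => Subgroup.mem_map.1 hz
  -- powers
  have hexp : ∀ z ∈ Q, (∀ w : G, π w = z → PV p w) → (∀ w : G, π w = z ^ p → PV p w) → False := by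
    intro z hz h1 h2
    obtain ⟨x, -, rfl⟩ := hlift z hz
    exact hII x (h1 x rfl) (h2 _ (by rw [map_pow]))
  -- elementary abelian subgroups all of whose lifts vanish
  have hcyc : ∀ E : Subgroup (G ⧸ N), E ≤ Q → IsMulCommutative E → (∀ z ∈ E, z ^ p = 1) →
      (∀ w : G, π w ∈ E → π w ≠ 1 → PV p w) → Nat.card E ∣ p := by
    intro E hEQ hEc hEexp hEpv
    set S := (E.comap π) ⊓ (P : Subgroup G) with hS
    haveI : IsMulCommutative S := ⟨⟨fun x y => by
      have h1 : π ((x : G) * y) = π ((y : G) * x) := by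
        rw [map_mul, map_mul]
        exact congrArg Subtype.val (hEc.is_comm.comm ⟨π x, x.2.1⟩ ⟨π y, y.2.1⟩)
      refine Subtype.ext (inv_mul_eq_one.1 (hPN _
        ((P : Subgroup G).mul_mem ((P : Subgroup G).inv_mem ((P : Subgroup G).mul_mem x.2.2 y.2.2))
          ((P : Subgroup G).mul_mem y.2.2 x.2.2)) ?_))
      exact QuotientGroup.eq.1 h1⟩⟩
    have hScyc : IsCyclic S := by
      by_contra hnc
      obtain ⟨k, hk⟩ := IsPGroup.iff_card.1 ((P.isPGroup'.to_le inf_le_right) : IsPGroup p S)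
      have hgen := Cfsg.Agent.S0058.result S N hnc
        (fun x _ => by rw [Subgroup.normalizer_eq_top]; exact Subgroup.mem_top x)
        (hk ▸ (hcop.symm.pow_left k))
      apply hN1
      rw [← hgen]
      refine le_bot_iff.1 (iSup₂_le fun a ha m hm => Subgroup.mem_bot.2 ?_)
      obtain ⟨haS, ha1⟩ := ha
      have hπa : π a ≠ 1 := fun h => ha1 (hPN a haS.2 ((QuotientGroup.eq_one_iff a).1 h))
      obtain ⟨i, hi⟩ := hI (a * m) (hEpv _ (by rw [map_mul, hπ1 m hm.1, mul_one]; exact haS.1)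
        (by rw [map_mul, hπ1 m hm.1, mul_one]; exact hπa))
      obtain ⟨j, hj⟩ := IsPGroup.iff_orderOf.1 P.isPGroup' ⟨a, haS.2⟩
      rw [Subgroup.orderOf_mk] at hj
      have hmdvd : orderOf m ∣ Nat.card N := by simpa using orderOf_dvd_natCard (⟨m, hm.1⟩ : N)
      have hc : (orderOf a).Coprime (orderOf m) := hj ▸ ((hcop.coprime_dvd_left hmdvd).symm.pow_left j)
      have hcomm : Commute a m := (Subgroup.mem_centralizer_singleton_iff.1 hm.2).symm
      rw [hcomm.orderOf_mul_eq_mul_orderOf_of_coprime hc] at hi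
      exact orderOf_eq_one_iff.1 (Nat.eq_one_of_dvd_coprimes (hcop.pow_right i) hmdvd
        (hi ▸ dvd_mul_left _ _))
    have hSE : S.map π = E := by
      refine le_antisymm ((Subgroup.map_mono inf_le_left).trans (Subgroup.map_comap_le _ _)) fun z hz => ?_
      obtain ⟨y, hy, rfl⟩ := hlift z (hEQ hz)
      exact ⟨y, ⟨hz, hy⟩, rfl⟩
    haveI : IsCyclic E := by
      rw [← hSE]
      exact isCyclic_of_surjective (π.subgroupMap S) (π.subgroupMap_surjective S)
    obtain ⟨g, hg⟩ := IsCyclic.exists_generator (α := E)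
    rw [← orderOf_eq_card_of_forall_mem_zpowers hg]
    exact orderOf_dvd_of_pow_eq_one (Subtype.ext (hEexp g g.2))
  -- the centre of `Y`
  haveI : Group.IsNilpotent Y := hYp.isNilpotent
  haveI : Nontrivial Y := (Subgroup.nontrivial_iff_ne_bot Y).2 hY1
  set A := (Subgroup.center Y).map Y.subtype with hA
  haveI hAn : A.Normal := inferInstance
  have hAY : A ≤ Y := Subgroup.map_subtype_le _
  have hAc : IsMulCommutative A := ⟨⟨fun x y => by
    obtain ⟨x', hx', hxe⟩ := Subgroup.mem_map.1 x.2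
    obtain ⟨y', -, hye⟩ := Subgroup.mem_map.1 y.2
    refine Subtype.ext ?_
    show (x : G ⧸ N) * y = y * x
    rw [← hxe, ← hye]
    exact congrArg Subtype.val (Subgroup.mem_center_iff.1 hx' y').symm⟩⟩
  have hsecA : ∀ w : G, π w ∈ A → π w ≠ 1 → PV p w := fun w hw hw1 =>
    hsec A hAn hAY hAc w ⟨1, by rwa [pow_one], by rwa [pow_one]⟩
  have hAexp : ∀ z ∈ A, z ^ p = 1 := by
    intro z hz
    by_contra hzp
    exact hexp z (hYQ (hAY hz))
      (fun w hw => hsecA w (hw ▸ hz) (hw ▸ fun h => hzp (by rw [h, one_pow])))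
      (fun w hw => hsecA w (hw ▸ A.pow_mem hz p) (hw ▸ hzp))
  have hA1 : A ≠ ⊥ := by
    rw [hA, Ne, Subgroup.map_eq_bot_iff_of_injective _ Y.subtype_injective]
    exact fun h' => (Subgroup.nontrivial_iff_ne_bot _).1 (hYp.center_nontrivial) h'
  have hAcard : Nat.card A = p :=
    ((Nat.dvd_prime hp).1 (hcyc A (hAY.trans hYQ) hAc hAexp hsecA)).resolve_left
      fun h => hA1 (Subgroup.card_eq_one.1 h)
  haveI := Fintype.ofFinite (G ⧸ N)
  haveI := Fintype.ofFinite Y
  have hcard : Nat.card (Subgroup.center Y) = p := by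
    rw [← hAcard, hA, Subgroup.card_map_of_injective Y.subtype_injective]
  -- `Y` is abelian
  have hYA : Y ≤ A := by
    by_contra hYA
    have hZtop : Subgroup.center Y ≠ ⊤ := fun h' => hYA (by
      rw [hA, h', ← MonoidHom.range_eq_map, Subgroup.range_subtype])
    obtain ⟨y, hy, hyZ⟩ : ∃ y : Y, (∀ g : Y, ⁅y, g⁆ ∈ Subgroup.center Y) ∧ y ∉ Subgroup.center Y := by
      haveI : Nontrivial (Y ⧸ Subgroup.center Y) := by
        rw [← Finite.one_lt_card_iff_nontrivial, ← Subgroup.index_eq_card]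
        exact Subgroup.one_lt_index_of_ne_top hZtop
      obtain ⟨w, hw, hw1⟩ := (Subgroup.bot_or_exists_ne_one _).resolve_left
        ((Subgroup.nontrivial_iff_ne_bot _).1 ((hYp.to_quotient (Subgroup.center Y)).center_nontrivial))
      obtain ⟨y, rfl⟩ := QuotientGroup.mk'_surjective _ w
      refine ⟨y, fun g => ?_, fun h' => hw1 ((QuotientGroup.eq_one_iff y).2 h')⟩
      rw [← QuotientGroup.eq_one_iff, ← QuotientGroup.mk'_apply, map_commutatorElement,
        commutatorElement_eq_one_iff_mul_comm]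
      exact (Subgroup.mem_center_iff.1 hw _).symm
    obtain ⟨c, hc, hc1⟩ := (Subgroup.bot_or_exists_ne_one (Subgroup.center Y)).resolve_left fun h' =>
      hp.one_lt.ne' (by rw [← hcard, h', Subgroup.card_bot])
    obtain ⟨ψ, hψ, hψc⟩ : ∃ ψ : Y → ℂ, Cfsg.IsIrrCharacter Y ψ ∧ ψ c ≠ ψ 1 := by
      by_contra hno
      push Not at hno
      exact hc1 (isConj_one_left.1 ((isConj_iff_irr_eq c 1).2 hno))
    have hker : ∀ d ∈ Subgroup.center Y, ψ d = ψ 1 → d = 1 := by
      intro d hd hd1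
      haveI : Fact (Nat.card (Subgroup.center Y)).Prime := ⟨hcard ▸ hp⟩
      let K := (kerSubgroup (IsIrrCharacter.isCharacter hψ)).subgroupOf (Subgroup.center Y)
      rcases Subgroup.eq_bot_or_eq_top_of_prime_card K with hK | hK
      · exact congrArg Subtype.val (Subgroup.mem_bot.1 (show (⟨d, hd⟩ : Subgroup.center Y) ∈
          (⊥ : Subgroup _) from hK ▸ (hd1 : (⟨d, hd⟩ : Subgroup.center Y) ∈ K)))
      · exact absurd (show (⟨c, hc⟩ : Subgroup.center Y) ∈ K from hK ▸ Subgroup.mem_top _) hψc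
    have hvan : ∀ y : Y, (∀ g : Y, ⁅y, g⁆ ∈ Subgroup.center Y) → y ∉ Subgroup.center Y → ψ y = 0 := by
      intro y hy hyZ
      obtain ⟨g, hg⟩ : ∃ g : Y, ⁅y, g⁆ ≠ 1 := by
        by_contra hno
        push Not at hno
        exact hyZ (Subgroup.mem_center_iff.2 fun g =>
          (commutatorElement_eq_one_iff_mul_comm.1 (hno g)).symm)
      have h1 := IsIrrCharacter.apply_center_mul hψ ((Subgroup.center Y).inv_mem (hy g)) y
      rw [show (⁅y, g⁆)⁻¹ * y = g * y * g⁻¹ by rw [commutatorElement_def]; group,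
        IsIrrCharacter.isClassFunction hψ y g] at h1
      by_contra h0
      have h2 := (div_eq_one_iff_eq (IsIrrCharacter.apply_one_ne_zero hψ)).1
        ((mul_eq_right₀ h0).1 h1.symm)
      exact hg (inv_eq_one.1 (hker _ ((Subgroup.center Y).inv_mem (hy g)) h2))
    obtain ⟨χ, hχ, hχc⟩ := exists_over Y hψ
    -- every lift of a nontrivial element of the second centre vanishes
    set D := (Subgroup.center (Y ⧸ Subgroup.center Y)).comap (QuotientGroup.mk' (Subgroup.center Y))
    have hD : ∀ w : Y, w ∈ D ↔ ∀ g : Y, ⁅w, g⁆ ∈ Subgroup.center Y := by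
      intro w
      rw [Subgroup.mem_comap, Subgroup.mem_center_iff]
      constructor
      · intro h g
        rw [← QuotientGroup.eq_one_iff, ← QuotientGroup.mk'_apply, map_commutatorElement,
          commutatorElement_eq_one_iff_mul_comm]
        exact (h _).symm
      · intro h g
        obtain ⟨g, rfl⟩ := QuotientGroup.mk'_surjective _ g
        symm
        rw [← commutatorElement_eq_one_iff_mul_comm, ← map_commutatorElement, QuotientGroup.mk'_apply,
          QuotientGroup.eq_one_iff]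
        exact h g
    have hDpv : ∀ w : Y, w ∈ D → w ≠ 1 → ∀ x : G, π x = (w : G ⧸ N) → PV p x := by
      intro w hwD hw1 x hx
      by_cases hwc : w ∈ Subgroup.center Y
      · refine hsecA x (hx ▸ Subgroup.mem_map_of_mem Y.subtype hwc) fun h => hw1 ?_
        exact Subtype.ext (hx.symm.trans h)
      refine PV.of_quotient N ⟨?_, χ, hχ, ?_⟩
      · rw [← QuotientGroup.mk'_apply, ← hπdef, hx, Subgroup.orderOf_coe]
        obtain ⟨k, hk⟩ := IsPGroup.iff_orderOf.1 hYp w
        rw [hk]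
        refine dvd_pow_self p fun h' => hw1 ?_
        rw [h', pow_zero, orderOf_eq_one_iff] at hk
        exact hk
      rw [← QuotientGroup.mk'_apply, ← hπdef, hx]
      have h1 := congrFun (restrict_eq_smul_sum hχ hψ hχc) w
      rw [Pi.smul_apply, Finset.sum_apply] at h1
      rw [h1, Finset.sum_eq_zero, smul_zero]
      intro φ hφ
      obtain ⟨g, rfl⟩ := mem_conjOrbit.1 hφ
      rw [conjOn_apply]
      set e : Y ≃* Y := MulAut.conjNormal g
      have he : (⟨g * w * g⁻¹, hYn.conj_mem _ w.2 g⟩ : Y) = e w := Subtype.ext (by simp [e])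
      rw [he]
      refine hvan _ (fun z => ?_) fun h' => hwc ?_
      · obtain ⟨z, rfl⟩ := e.surjective z
        rw [← map_commutatorElement]
        exact (Subgroup.Characteristic.fixed (H := Subgroup.center Y) inferInstance e).ge
          ((hD w).1 hwD z)
      · exact (Subgroup.Characteristic.fixed (H := Subgroup.center Y) inferInstance e).le h'
    have hDexp : ∀ w : Y, w ∈ D → w ^ p = 1 := by
      intro w hw
      by_contra hwp
      exact hexp (w : G ⧸ N) (hYQ w.2) (fun x hx => hDpv w hw (fun h => hwp (by rw [h, one_pow])) x hx)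
        (fun x hx => hDpv (w ^ p) (D.pow_mem hw p) hwp x (by rw [hx, Subgroup.coe_pow]))
    -- a noncyclic elementary subgroup of the second centre
    have hyD : y ∈ D := (hD y).2 hy
    set E0 := Subgroup.zpowers y ⊔ Subgroup.center Y with hE0
    have hE0D : E0 ≤ D := sup_le (by rwa [Subgroup.zpowers_le]) fun z hz => (hD z).2 fun g => by
      rw [show ⁅z, g⁆ = 1 from commutatorElement_eq_one_iff_mul_comm.2 (Subgroup.mem_center_iff.1 hz g).symm]
      exact one_mem _
    have hdec : ∀ a ∈ E0, ∃ (i : ℤ) (u : Y), u ∈ Subgroup.center Y ∧ a = y ^ i * u := by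
      intro a ha
      obtain ⟨u, hu, v, hv, huv⟩ := Subgroup.mem_sup_of_normal_right.1 ha
      obtain ⟨i, hi⟩ := Subgroup.mem_zpowers_iff.1 hu
      exact ⟨i, v, hv, by rw [← huv, ← hi]⟩
    have hE0c : ∀ a ∈ E0, ∀ b ∈ E0, a * b = b * a := by
      intro a ha b hb
      obtain ⟨i, u, hu, rfl⟩ := hdec a ha
      obtain ⟨j, v, hv, rfl⟩ := hdec b hb
      have hu' : ∀ g : Y, Commute u g := fun g => (Subgroup.mem_center_iff.1 hu g).symm
      have hv' : ∀ g : Y, Commute v g := fun g => (Subgroup.mem_center_iff.1 hv g).symm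
      exact (((Commute.refl y).zpow_zpow i j).mul_left (hu' _)).mul_right
        ((hv' _).symm)
    set E := E0.map Y.subtype with hE
    have hEcard : Nat.card E ∣ p := by
      refine hcyc E ((Subgroup.map_subtype_le _).trans hYQ) ⟨⟨fun a b => Subtype.ext ?_⟩⟩ (fun z hz => ?_)
        fun x hx hx1 => ?_
      · obtain ⟨a', ha', hae⟩ := Subgroup.mem_map.1 a.2
        obtain ⟨b', hb', hbe⟩ := Subgroup.mem_map.1 b.2
        show (a : G ⧸ N) * b = b * a
        rw [← hae, ← hbe]
        exact congrArg Subtype.val (hE0c a' ha' b' hb')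
      · obtain ⟨z', hz', rfl⟩ := Subgroup.mem_map.1 hz
        rw [← map_pow, hDexp z' (hE0D hz'), map_one]
      · obtain ⟨w, hw, hwe⟩ := Subgroup.mem_map.1 hx
        exact hDpv w (hE0D hw) (fun h => hx1 (by rw [← hwe, h, map_one])) x hwe.symm
    rw [hE, Subgroup.card_map_of_injective Y.subtype_injective] at hEcard
    have hle : Subgroup.center Y ≤ E0 := le_sup_right
    have heq := Subgroup.eq_of_le_of_card_ge hle ((Nat.le_of_dvd hp.pos hEcard).trans hcard.ge)
    exact hyZ (heq ▸ (le_sup_left : Subgroup.zpowers y ≤ E0) (Subgroup.mem_zpowers y))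
  -- the centraliser of `A` is a `p`-group
  set C := Subgroup.centralizer (A : Set (G ⧸ N)) with hC
  haveI : C.Normal := inferInstance
  obtain ⟨a0, ha0, ha01⟩ := (Subgroup.bot_or_exists_ne_one A).resolve_left hA1
  have hCp : IsPGroup p C := by
    intro w
    obtain ⟨a, m, hm, hord⟩ := Nat.exists_eq_pow_mul_and_not_dvd (orderOf_pos w).ne' p hp.ne_one
    refine ⟨a, ?_⟩
    by_contra hne
    set v : G ⧸ N := ((w : C) : G ⧸ N) ^ p ^ a with hv
    have hv1 : v ≠ 1 := fun h => hne (Subtype.ext (by rw [Subgroup.coe_pow]; exact h))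
    have hvm : v ^ m = 1 := by
      rw [hv, ← pow_mul, ← hord, ← Subgroup.coe_pow, pow_orderOf_eq_one, Subgroup.coe_one]
    have hcomm : Commute a0 v := by
      have h := (Subgroup.mem_centralizer_iff.1 (C.pow_mem w.2 (p ^ a))) a0 ha0
      exact h
    obtain ⟨g, hg⟩ := hπ (a0 * v)
    have ha0p : a0 ^ p = 1 := hAexp a0 ha0
    have hmem : π g ^ m = a0 ^ m := by rw [hg, hcomm.mul_pow, hvm, mul_one]
    have ha0m : a0 ^ m ≠ 1 := fun h => ha01 (orderOf_eq_one_iff.1 (Nat.eq_one_of_dvd_coprimes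
      (hp.coprime_iff_not_dvd.2 hm) (orderOf_dvd_of_pow_eq_one ha0p) (orderOf_dvd_of_pow_eq_one h)))
    obtain ⟨i, hi⟩ := hI g (hsec A hAn hAY hAc g
      ⟨m, by rw [hmem]; exact A.pow_mem ha0 m, by rw [hmem]; exact ha0m⟩)
    have hd : orderOf (a0 * v) ∣ p ^ i := by rw [← hg, ← hi]; exact orderOf_map_dvd π g
    have hco : (orderOf a0).Coprime (orderOf v) :=
      Nat.Coprime.coprime_dvd_left (orderOf_dvd_of_pow_eq_one ha0p)
        (Nat.Coprime.coprime_dvd_right (orderOf_dvd_of_pow_eq_one hvm) (hp.coprime_iff_not_dvd.2 hm))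
    rw [hcomm.orderOf_mul_eq_mul_orderOf_of_coprime hco] at hd
    exact hv1 (orderOf_eq_one_iff.1 (Nat.eq_one_of_dvd_coprimes
      (Nat.Coprime.pow_left i (hp.coprime_iff_not_dvd.2 hm))
      ((dvd_mul_left _ _).trans hd) (orderOf_dvd_of_pow_eq_one hvm)))
  have hCA : C ≤ A := (CfsgLib.Solvable.le_pCore p inferInstance hCp).trans hYA
  have hQC : Q ≤ C := by
    intro z hz
    rw [hC, Subgroup.mem_centralizer_iff]
    intro a ha
    haveI : Group.IsNilpotent Q := hQp.isNilpotent
    have hAQ : A ≤ Q := hAY.trans hYQ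
    haveI : (A.subgroupOf Q).Normal := Subgroup.Normal.subgroupOf inferInstance Q
    have hne : A.subgroupOf Q ≠ ⊥ := fun h => hA1 (by
      rwa [Subgroup.subgroupOf_eq_bot, disjoint_iff, inf_eq_left.2 hAQ] at h)
    have hne2 := CfsgLib.PGroupBasic.inf_center_ne_bot (A.subgroupOf Q) hne
    haveI : Fact (Nat.card (A.subgroupOf Q)).Prime := ⟨by
      rw [Nat.card_congr (Subgroup.subgroupOfEquivOfLe hAQ).toEquiv, hAcard]; exact hp⟩
    rcases Subgroup.eq_bot_or_eq_top_of_prime_card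
      ((Subgroup.center Q).subgroupOf (A.subgroupOf Q)) with hK | hK
    · exact absurd (by rwa [Subgroup.subgroupOf_eq_bot, disjoint_iff, inf_comm] at hK) hne2
    · have := Subgroup.subgroupOf_eq_top.1 hK (show (⟨a, hAQ ha⟩ : Q) ∈ A.subgroupOf Q from ha)
      exact (congrArg Subtype.val (Subgroup.mem_center_iff.1 this ⟨z, hz⟩)).symm
  exact hAcard ▸ Subgroup.card_le_of_le (hQC.trans hCA)

end CfsgLib.Vanishing
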