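import Cfsg.Agent.Char.DegreesPrime
import Cfsg.Agent.Char.Garrison
import Cfsg.Agent.Char.Inflation
import Cfsg.Agent.Char.CenterValues
import Cfsg.Agent.Solvable.Fitting
import Cfsg.Agent.S0058

/-!
# Vanishing elements of order divisible by `p` in solvable groups

If all of them are conjugate, a Sylow `p`-subgroup has order at most `p` times that of the
`p`-core; if there are none, it is normal.  A regular orbit of an abelian normal `p`-section on a
minimal normal subgroup supplies the vanishing elements.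
-/

set_option autoImplicit false
set_option linter.style.haveILetI false
set_option linter.unusedSectionVars false

namespace CfsgLib.Vanishing

open scoped commutatorElement
open CfsgLib.Char
open CfsgLib.Char.DegreesPrime (act act_apply act_eq_iff exists_over separate)

universe u

/-- A vanishing element of order divisible by `p`. -/
def PV {G : Type u} [Group G] (p : ℕ) (g : G) : Prop :=
  p ∣ orderOf g ∧ ∃ χ : G → ℂ, Cfsg.IsIrrCharacter G χ ∧ χ g = 0

variable {G : Type u} [Group G] [Finite G] {p : ℕ}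

theorem PV.of_quotient (N : Subgroup G) [N.Normal] {g : G} (h : PV p (g : G ⧸ N)) : PV p g := by
  obtain ⟨hd, χ, hχ, h0⟩ := h
  exact ⟨hd.trans (orderOf_map_dvd (QuotientGroup.mk' N) g), _, IsIrrCharacter.inflate N hχ, h0⟩

theorem PV.quotient_one_class (h : ∀ x y : G, PV p x → PV p y → IsConj x y) (N : Subgroup G)
    [N.Normal] (x y : G ⧸ N) (hx : PV p x) (hy : PV p y) : IsConj x y := by
  obtain ⟨a, rfl⟩ := QuotientGroup.mk'_surjective N x
  obtain ⟨b, rfl⟩ := QuotientGroup.mk'_surjective N y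
  obtain ⟨c, hc⟩ := isConj_iff.1 (h a b (PV.of_quotient N hx) (PV.of_quotient N hy))
  exact isConj_iff.2 ⟨QuotientGroup.mk' N c, by rw [← map_mul, ← map_inv, ← map_mul, hc]⟩

theorem PV.quotient_none (h : ∀ x : G, ¬ PV p x) (N : Subgroup G) [N.Normal] (x : G ⧸ N) :
    ¬ PV p x := fun hx => by
  obtain ⟨a, rfl⟩ := QuotientGroup.mk'_surjective N x
  exact h a (PV.of_quotient N hx)

variable [Fact p.Prime]

theorem card_sylow_eq (P : Sylow p G) (N : Subgroup G) [N.Normal] :
    Nat.card (P : Subgroup G) = Nat.card (N ⊓ (P : Subgroup G) : Subgroup G) *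
      Nat.card ((P : Subgroup G).map (QuotientGroup.mk' N)) := by
  rw [← Subgroup.relIndex_ker, QuotientGroup.ker_mk', ← Subgroup.inf_relIndex_right,
    ← Subgroup.relIndex_bot_left, ← Subgroup.relIndex_bot_left,
    Subgroup.relIndex_mul_relIndex _ _ _ bot_le inf_le_right]

/-- A regular orbit of an abelian normal `p`-section gives a character vanishing at every element
with a power in the section. -/
theorem exists_vanishing_powers (hO : Cfsg.pCore p G = ⊥) (N B : Subgroup G) [N.Normal] [B.Normal]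
    (hNB : N ≤ B) (hNab : ∀ a ∈ N, ∀ b ∈ N, a * b = b * a) (hcop : (Nat.card N).Coprime p)
    (hBN : ∀ x ∈ B, ∃ j, x ^ p ^ j ∈ N) (hBab : ∀ x ∈ B, ∀ y ∈ B, ⁅x, y⁆ ∈ N) :
    ∃ χ : G → ℂ, Cfsg.IsIrrCharacter G χ ∧
      ∀ g : G, (∃ k : ℕ, g ^ k ∈ B ∧ g ^ k ∉ N) → χ g = 0 := by
  classical
  haveI := Fintype.ofFinite G
  haveI := Fintype.ofFinite N
  have hp : p.Prime := Fact.out
  -- the centraliser of `N` in `B` is `N`
  have hCN : ∀ x ∈ B, (∀ n ∈ N, x * n = n * x) → x ∈ N := by
    set C := B ⊓ Subgroup.centralizer (N : Set G) with hC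
    have hmem : ∀ x, x ∈ C ↔ x ∈ B ∧ ∀ n ∈ N, n * x = x * n := fun x => by
      rw [hC, Subgroup.mem_inf, Subgroup.mem_centralizer_iff]; rfl
    haveI : C.Normal := inferInstance
    have hNC : N ≤ C := fun x hx => (hmem x).2 ⟨hNB hx, fun n hn => hNab n hn x hx⟩
    have hnil : Group.IsNilpotent C := by
      have hq : IsPGroup p (C ⧸ Subgroup.center C) := by
        intro x
        obtain ⟨x, rfl⟩ := QuotientGroup.mk'_surjective _ x
        obtain ⟨j, hj⟩ := hBN (x : G) ((hmem _).1 x.2).1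
        refine ⟨j, ?_⟩
        rw [← map_pow, QuotientGroup.mk'_apply, QuotientGroup.eq_one_iff, Subgroup.mem_center_iff]
        intro y
        exact Subtype.ext (by simpa using (((hmem _).1 y.2).2 _ hj).symm)
      haveI := hq.isNilpotent
      exact Group.of_quotient_center_nilpotent inferInstance
    obtain ⟨S⟩ : Nonempty (Sylow p C) := inferInstance
    haveI hSn : (S : Subgroup C).Normal :=
      S.normal_of_normalizerCondition Group.normalizerCondition_of_isNilpotent
    haveI : (S : Subgroup C).Characteristic := Sylow.characteristic_of_normal S hSn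
    have hS : (S : Subgroup C) = ⊥ := by
      have h := CfsgLib.Solvable.le_pCore p (N := (S : Subgroup C).map C.subtype) inferInstance
        (S.isPGroup'.map _)
      rw [hO, le_bot_iff, Subgroup.map_eq_bot_iff_of_injective _ C.subtype_injective] at h
      exact h
    intro x hxB hx
    have hxC : x ∈ C := (hmem x).2 ⟨hxB, fun n hn => (hx n hn).symm⟩
    have hnd : ¬ p ∣ orderOf x := fun h => by
      have h1 := S.not_dvd_index
      rw [hS, Subgroup.index_bot] at h1
      exact h1 (h.trans (by simpa using orderOf_dvd_natCard (⟨x, hxC⟩ : C)))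
    obtain ⟨j, hj⟩ := hBN x hxB
    obtain ⟨k, hk⟩ := exists_pow_eq_self_of_coprime
      (Nat.Coprime.pow_right j ((hp.coprime_iff_not_dvd.2 hnd).symm)).symm
    exact hk ▸ N.pow_mem hj k
  -- a regular orbit on the linear characters
  have hfix : ∀ (g : G) (l : N →* ℂˣ), act N g l = l ↔ g ∈ inertia fun x : N => (l x : ℂ) :=
    fun g l => by rw [act_eq_iff, inv_mem_iff]
  have hin : ∀ n ∈ N, ∀ l : N →* ℂˣ, act N n l = l := fun n hn l =>
    (hfix n l).2 (le_inertia (IsIrrCharacter.isClassFunction (isIrrCharacter_ofHom l)) hn)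
  obtain ⟨v, -, hv⟩ := Garrison.exists_regular (A := B) (W := N →* ℂˣ)
    (fun a => (act N (a : G)).toMonoidHom) (fun a b w => by simp) (fun w => by simp)
    (fun a b w => by
      show act N ((a : G) * b) w = act N ((b : G) * a) w
      rw [show (a : G) * b = ⁅(a : G), (b : G)⁆ * ((b : G) * a) by rw [commutatorElement_def]; group,
        map_mul, MulAut.mul_apply]
      exact hin _ (hBab _ a.2 _ b.2) _)
    (q := p) (r := Nat.card N) hcop.symm fun a => by
      obtain ⟨j, hj⟩ := hBN a a.2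
      exact ⟨j, fun w => hin _ (by simpa using hj) w⟩
  obtain ⟨T, hT⟩ : ∃ T : Subgroup G, (inertia fun x : N => (v x : ℂ)) = T := ⟨_, rfl⟩
  have hTB : ∀ x ∈ B, x ∈ T → x ∈ N := by
    intro x hx hxT
    rw [← hT, ← hfix] at hxT
    refine hCN x hx fun n hn => ?_
    have heq : (⟨x⁻¹ * n * x, by simpa using ‹N.Normal›.conj_mem n hn x⁻¹⟩ : N) = ⟨n, hn⟩ :=
      separate N hNab fun l => by
        have h := DFunLike.congr_fun (hv ⟨x, hx⟩ hxT l (MonoidHom.ext fun y => by
          rw [MonoidHom.pow_apply, ← map_pow, pow_card_eq_one', map_one, MonoidHom.one_apply]))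
          ⟨n, hn⟩
        rw [← h]
        exact (act_apply N x l ⟨n, hn⟩).symm
    have h2 : x⁻¹ * n * x = n := congrArg Subtype.val heq
    calc x * n = x * (x⁻¹ * n * x) := by rw [h2]
      _ = n * x := by group
  have hNT : N ≤ T := hT ▸ le_inertia (IsIrrCharacter.isClassFunction (isIrrCharacter_ofHom v))
  haveI := Fintype.ofFinite T
  obtain ⟨χ, hχ, hc⟩ := exists_over N (isIrrCharacter_ofHom v)
  obtain ⟨ψ, -, rfl, -⟩ := exists_indFun_eq_of_inertia hNT (isIrrCharacter_ofHom v) hT hχ hc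
  refine ⟨_, hχ, ?_⟩
  rintro g ⟨k, hk, hkN⟩
  refine indFun_eq_zero ψ fun x hx => hkN ?_
  have hpow : (x⁻¹ * g * x) ^ k = x⁻¹ * g ^ k * x := by
    have h := conj_pow (a := x⁻¹) (b := g) (i := k)
    rwa [inv_inv] at h
  have h := hTB _ (by simpa using ‹B.Normal›.conj_mem _ hk x⁻¹) (hpow ▸ T.pow_mem hx k)
  have := ‹N.Normal›.conj_mem _ h x
  simpa [mul_assoc] using this

/-- An abelian normal `p`-section over an abelian normal subgroup of order prime to `p` in a group
with trivial `p`-core consists of vanishing elements. -/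
theorem pv_of_section (hO : Cfsg.pCore p G = ⊥) (N B : Subgroup G) [N.Normal] [B.Normal]
    (hNB : N ≤ B) (hNab : ∀ a ∈ N, ∀ b ∈ N, a * b = b * a) (hcop : (Nat.card N).Coprime p)
    (hBN : ∀ x ∈ B, ∃ j, x ^ p ^ j ∈ N) (hBab : ∀ x ∈ B, ∀ y ∈ B, ⁅x, y⁆ ∈ N)
    {b : G} (hb : b ∈ B) (hbN : b ∉ N) : PV p b := by
  have hp : p.Prime := Fact.out
  obtain ⟨χ, hχ, hvan⟩ := exists_vanishing_powers hO N B hNB hNab hcop hBN hBab
  refine ⟨?_, χ, hχ, hvan b ⟨1, by rwa [pow_one], by rwa [pow_one]⟩⟩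
  · by_contra hd
    obtain ⟨j, hj⟩ := hBN b hb
    have hc : (orderOf b).Coprime (p ^ j) :=
      Nat.Coprime.pow_right j ((hp.coprime_iff_not_dvd.2 hd).symm)
    obtain ⟨k, hk⟩ := exists_pow_eq_self_of_coprime hc.symm
    exact hbN (hk ▸ N.pow_mem hj k)

/-- Both statements, by induction. -/
theorem main (n : ℕ) : ∀ (G : Type u) [Group G] [Finite G], Nat.card G = n → Group.IsSolvable G →
    ((∀ x : G, ¬ PV p x) → ∀ P : Sylow p G, (P : Subgroup G) ≤ Cfsg.pCore p G) ∧
    ((∀ x y : G, PV p x → PV p y → IsConj x y) →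
      ∀ P : Sylow p G, Nat.card (P : Subgroup G) ≤ p * Nat.card (Cfsg.pCore p G)) := by
  induction n using Nat.strong_induction_on with | _ n ih =>
  intro G _ _ hn hsolv
  classical
  subst hn
  have hp : p.Prime := Fact.out
  haveI hOn : (Cfsg.pCore p G).Normal := (CfsgLib.Solvable.pCore_spec p).1
  have hOp : IsPGroup p (Cfsg.pCore p G) := (CfsgLib.Solvable.pCore_spec p).2
  have hquot : ∀ M : Subgroup G, [M.Normal] → M ≠ ⊥ → Nat.card (G ⧸ M) < Nat.card G := by
    intro M _ hM
    rw [← Subgroup.index_eq_card, ← Subgroup.card_mul_index M]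
    exact lt_mul_of_one_lt_left (Nat.pos_of_ne_zero Subgroup.index_ne_zero_of_finite)
      ((Subgroup.one_lt_card_iff_ne_bot _).2 hM)
  by_cases hO : Cfsg.pCore p G ≠ ⊥
  · -- a nontrivial `p`-core
    obtain ⟨ih1, ih2⟩ := ih _ (hquot _ hO) (G ⧸ Cfsg.pCore p G) rfl inferInstance
    have hO1 : Cfsg.pCore p (G ⧸ Cfsg.pCore p G) = ⊥ := by
      set π := QuotientGroup.mk' (Cfsg.pCore p G)
      haveI : (Cfsg.pCore p (G ⧸ Cfsg.pCore p G)).Normal := (CfsgLib.Solvable.pCore_spec p).1
      have hpre : IsPGroup p ((Cfsg.pCore p (G ⧸ Cfsg.pCore p G)).comap π) :=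
        (CfsgLib.Solvable.pCore_spec p).2.comap_of_ker_isPGroup π (by
          rw [QuotientGroup.ker_mk']; exact hOp)
      have h := CfsgLib.Solvable.le_pCore p inferInstance hpre
      rw [← Subgroup.map_comap_eq_self_of_surjective (QuotientGroup.mk'_surjective _)
        (Cfsg.pCore p (G ⧸ Cfsg.pCore p G)), Subgroup.map_eq_bot_iff, QuotientGroup.ker_mk']
      exact h
    refine ⟨fun h P => ?_, fun h P => ?_⟩
    · have h1 := ih1 (PV.quotient_none h _) (P.mapSurjective (QuotientGroup.mk'_surjective _))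
      rw [hO1, le_bot_iff, Sylow.coe_mapSurjective, Subgroup.map_eq_bot_iff,
        QuotientGroup.ker_mk'] at h1
      exact h1
    · have h1 := ih2 (PV.quotient_one_class h _) (P.mapSurjective (QuotientGroup.mk'_surjective _))
      rw [hO1, Subgroup.card_bot, mul_one, Sylow.coe_mapSurjective] at h1
      rw [card_sylow_eq P (Cfsg.pCore p G),
        inf_eq_left.2 (CfsgLib.Fitting.pCore_le_sylow P), mul_comm]
      exact Nat.mul_le_mul_right _ h1
  push Not at hO
  rw [hO, Subgroup.card_bot, mul_one]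
  by_cases hG : Subsingleton G
  · exact ⟨fun _ P => by rw [Subsingleton.elim (P : Subgroup G) ⊥],
      fun _ P => by rw [Nat.card_of_subsingleton (1 : (P : Subgroup G))]; exact hp.one_lt.le⟩
  haveI : Nontrivial G := not_subsingleton_iff_nontrivial.1 hG
  obtain ⟨N, hNn, hN1, -, hNab, -, r, hr, -, hNr⟩ := CfsgLib.Solvable.exists_normal_elementary_le
    (G := G) (N := ⊤) top_ne_bot inferInstance
  haveI := hNn
  have hrp : r ≠ p := fun h => hN1 (by
    have := CfsgLib.Solvable.le_pCore p hNn (h ▸ hNr)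
    rwa [hO, le_bot_iff] at this)
  have hcop : (Nat.card N).Coprime p := by
    haveI := Fact.mk hr
    obtain ⟨k, hk⟩ := IsPGroup.iff_card.1 hNr
    rw [hk]
    exact Nat.Coprime.pow_left k ((Nat.coprime_primes hr hp).2 hrp)
  have hNab' : ∀ a ∈ N, ∀ b ∈ N, a * b = b * a := fun a ha b hb =>
    congrArg Subtype.val (hNab.is_comm.comm ⟨a, ha⟩ ⟨b, hb⟩)
  set π := QuotientGroup.mk' N with hπdef
  have hπ : Function.Surjective π := QuotientGroup.mk'_surjective N
  obtain ⟨ih1, ih2⟩ := ih _ (hquot N hN1) (G ⧸ N) rfl inferInstance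
  set Y := Cfsg.pCore p (G ⧸ N) with hY
  haveI hYn : Y.Normal := (CfsgLib.Solvable.pCore_spec p).1
  have hYp : IsPGroup p Y := (CfsgLib.Solvable.pCore_spec p).2
  have hsylow : ∀ P : Sylow p G,
      Nat.card (P : Subgroup G) = Nat.card ((P : Subgroup G).map π) := by
    intro P
    rw [card_sylow_eq P N]
    have : Nat.card (N ⊓ (P : Subgroup G) : Subgroup G) = 1 := by
      obtain ⟨k, hk⟩ := IsPGroup.iff_card.1 P.isPGroup'
      exact Nat.eq_one_of_dvd_coprimes (hcop.pow_right k) (Subgroup.card_dvd_of_le inf_le_left)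
        (hk ▸ Subgroup.card_dvd_of_le inf_le_right)
    rw [this, one_mul]
  -- abelian normal subgroups of the quotient inside its `p`-core
  have hsec : ∀ A : Subgroup (G ⧸ N), A.Normal → IsPGroup p A → IsMulCommutative A →
      ∀ g : G, π g ∈ A → g ∉ N → PV p g := by
    intro A hA hAp hAc g hg hgN
    haveI : (A.comap π).Normal := hA.comap π
    refine pv_of_section hO N (A.comap π) (fun x hx => ?_) hNab' hcop (fun x hx => ?_)
      (fun x hx y hy => ?_) hg hgN
    · rw [Subgroup.mem_comap, hπdef, QuotientGroup.mk'_apply, (QuotientGroup.eq_one_iff x).2 hx]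
      exact one_mem A
    · obtain ⟨j, hj⟩ := hAp ⟨π x, hx⟩
      exact ⟨j, (QuotientGroup.eq_one_iff _).1 (by simpa [hπdef] using congrArg Subtype.val hj)⟩
    · rw [← QuotientGroup.eq_one_iff, ← QuotientGroup.mk'_apply, ← hπdef, map_commutatorElement,
        commutatorElement_eq_one_iff_mul_comm]
      exact congrArg Subtype.val (hAc.is_comm.comm ⟨π x, hx⟩ ⟨π y, hy⟩)
  by_cases hY1 : Y = ⊥
  · refine ⟨fun h P => ?_, fun h P => ?_⟩
    · have h1 := ih1 (PV.quotient_none h N) (P.mapSurjective hπ)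
      rw [hY1, le_bot_iff, Sylow.coe_mapSurjective] at h1
      have h2 := hsylow P
      rw [h1, Subgroup.card_bot] at h2
      rw [Subgroup.card_eq_one.1 h2]
    · have h1 := ih2 (PV.quotient_one_class h N) (P.mapSurjective hπ)
      rw [hY1, Subgroup.card_bot, mul_one, Sylow.coe_mapSurjective] at h1
      rw [hsylow P]; exact h1
  haveI : Group.IsSolvable Y := inferInstance
  obtain ⟨A, hAn, hA1, hAY, hAc, hAmin, q, hq, hAexp, -⟩ :=
    CfsgLib.Solvable.exists_normal_elementary_le (G := G ⧸ N) (N := Y) hY1 inferInstance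
  haveI := hAn
  have hAp : IsPGroup p A := hYp.to_le hAY
  obtain ⟨b, hb, hbN⟩ : ∃ b : G, π b ∈ A ∧ b ∉ N := by
    obtain ⟨z, hz, hz1⟩ := (Subgroup.bot_or_exists_ne_one A).resolve_left hA1
    obtain ⟨z, rfl⟩ := hπ z
    exact ⟨z, hz, fun h => hz1 ((QuotientGroup.eq_one_iff z).2 h)⟩
  refine ⟨fun h => absurd (hsec A hAn hAp hAc b hb hbN) (h b), fun h P => ?_⟩
  -- every such element lies over `A`
  have hover : ∀ g : G, PV p g → π g ∈ A := by
    intro g hg
    obtain ⟨c, hc⟩ := isConj_iff.1 (h b g (hsec A hAn hAp hAc b hb hbN) hg)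
    rw [← hc, map_mul, map_mul, map_inv]
    exact hAn.conj_mem _ hb _
  set Q := (P : Subgroup G).map π with hQ
  have hQp : IsPGroup p Q := P.isPGroup'.map π
  let QS : Sylow p (G ⧸ N) := P.mapSurjective hπ
  have hQS : (QS : Subgroup (G ⧸ N)) = Q := Sylow.coe_mapSurjective _ _
  have hAQ : A ≤ Q := hAY.trans (hQS ▸ CfsgLib.Fitting.pCore_le_sylow QS)
  -- `Q` is normal
  haveI hQn : Q.Normal := by
    haveI : (A.comap π).Normal := hAn.comap π
    have hne : A.comap π ≠ ⊥ := fun h' => hbN (by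
      have : b ∈ A.comap π := hb
      rw [h', Subgroup.mem_bot] at this
      rw [this]; exact one_mem N)
    have hnone : ∀ x : G ⧸ A.comap π, ¬ PV p x := fun x hx => by
      obtain ⟨g, rfl⟩ := QuotientGroup.mk'_surjective _ x
      have hg := hover g (PV.of_quotient _ hx)
      have h1 : QuotientGroup.mk' (A.comap π) g = 1 := (QuotientGroup.eq_one_iff g).2 hg
      rw [h1] at hx
      exact hp.one_lt.ne' (Nat.dvd_one.1 (orderOf_one (G := G ⧸ A.comap π) ▸ hx.1))
    have hs := QuotientGroup.mk'_surjective (A.comap π)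
    have h1 := (ih _ (hquot _ hne) (G ⧸ A.comap π) rfl inferInstance).1 hnone (P.mapSurjective hs)
    rw [Sylow.coe_mapSurjective] at h1
    have h2 : (P : Subgroup G).map (QuotientGroup.mk' (A.comap π)) =
        Cfsg.pCore p (G ⧸ A.comap π) :=
      le_antisymm h1 ((CfsgLib.Fitting.pCore_le_sylow (P.mapSurjective hs)).trans
        (Sylow.coe_mapSurjective _ _).le)
    haveI : ((P : Subgroup G).map (QuotientGroup.mk' (A.comap π))).Normal :=
      h2 ▸ (CfsgLib.Solvable.pCore_spec p).1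
    have h3 : (((P : Subgroup G).map (QuotientGroup.mk' (A.comap π))).comap
        (QuotientGroup.mk' (A.comap π))).map π = Q := by
      rw [Subgroup.comap_map_eq, QuotientGroup.ker_mk', Subgroup.map_sup,
        Subgroup.map_comap_eq_self_of_surjective hπ, sup_eq_left.2 hAQ]
    rw [← h3]
    exact Subgroup.Normal.map inferInstance π hπ
  -- elements over `A` outside `N` centralise nothing in `N`
  have hfpf : ∀ x : G, π x ∈ A → x ∉ N → x ∈ (P : Subgroup G) → ∀ m ∈ N, x * m = m * x → m = 1 := by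
    intro x hx hxN hxP m hm hxm
    have hxm' : π (x * m) ∈ A := by
      rw [map_mul, show π m = 1 from (QuotientGroup.eq_one_iff m).2 hm, mul_one]; exact hx
    have hxmN : x * m ∉ N := fun h' => hxN (by simpa using N.mul_mem h' (N.inv_mem hm))
    obtain ⟨c, hc⟩ := isConj_iff.1 (h x (x * m) (hsec A hAn hAp hAc x hx hxN)
      (hsec A hAn hAp hAc _ hxm' hxmN))
    have hord : orderOf x = orderOf (x * m) := by
      rw [← hc, show c * x * c⁻¹ = MulAut.conj c x from rfl, MulEquiv.orderOf_eq]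
    obtain ⟨k, hk⟩ := IsPGroup.iff_orderOf.1 P.isPGroup' ⟨x, hxP⟩
    rw [Subgroup.orderOf_mk] at hk
    have hmdvd : orderOf m ∣ Nat.card N := by simpa using orderOf_dvd_natCard (⟨m, hm⟩ : N)
    have hcop' : (orderOf x).Coprime (orderOf m) :=
      hk ▸ ((hcop.coprime_dvd_left hmdvd).symm.pow_left k)
    rw [(show Commute x m from hxm).orderOf_mul_eq_mul_orderOf_of_coprime hcop'] at hord
    exact orderOf_eq_one_iff.1 ((Nat.mul_eq_left (orderOf_pos x).ne').1 hord.symm)
  -- `A` is cyclic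
  set S := (A.comap π) ⊓ (P : Subgroup G) with hS
  have hSA : S.map π = A := by
    refine le_antisymm ((Subgroup.map_mono inf_le_left).trans (Subgroup.map_comap_le _ _)) fun z hz => ?_
    obtain ⟨y, hy, rfl⟩ := Subgroup.mem_map.1 (hAQ hz)
    exact ⟨y, ⟨hz, hy⟩, rfl⟩
  have hSN : ∀ x ∈ S, x ∈ N → x = 1 := by
    intro x hx hxN
    obtain ⟨k, hk⟩ := IsPGroup.iff_orderOf.1 P.isPGroup' ⟨x, hx.2⟩
    rw [Subgroup.orderOf_mk] at hk
    refine orderOf_eq_one_iff.1 (Nat.eq_one_of_dvd_coprimes (hcop.pow_right k) ?_ (dvd_of_eq hk))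
    simpa using orderOf_dvd_natCard (⟨x, hxN⟩ : N)
  haveI : IsMulCommutative S := ⟨⟨fun x y => by
    have h1 : π ((x : G) * y) = π ((y : G) * x) := by
      rw [map_mul, map_mul]
      exact congrArg Subtype.val (hAc.is_comm.comm ⟨π x, x.2.1⟩ ⟨π y, y.2.1⟩)
    refine Subtype.ext (inv_mul_eq_one.1 (hSN _ (S.mul_mem (S.inv_mem (S.mul_mem x.2 y.2))
      (S.mul_mem y.2 x.2)) ?_))
    exact QuotientGroup.eq.1 h1⟩⟩
  have hScyc : IsCyclic S := by
    by_contra hnc
    obtain ⟨k, hk⟩ := IsPGroup.iff_card.1 ((P.isPGroup'.to_le inf_le_right) : IsPGroup p S)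
    have hgen := Cfsg.Agent.S0058.result S N hnc
      (fun x _ => by rw [Subgroup.normalizer_eq_top]; exact Subgroup.mem_top x)
      (hk ▸ (hcop.symm.pow_left k))
    apply hN1
    rw [← hgen]
    refine le_bot_iff.1 (iSup₂_le fun a ha m hm => Subgroup.mem_bot.2 ?_)
    obtain ⟨haS, ha1⟩ := ha
    exact hfpf a haS.1 (fun h' => ha1 (hSN a haS h')) haS.2 m hm.1
      ((Subgroup.mem_centralizer_singleton_iff.1 hm.2).symm)
  have hAcard : Nat.card A = p := by
    haveI : IsCyclic A := by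
      rw [← hSA]
      exact isCyclic_of_surjective (π.subgroupMap S) (π.subgroupMap_surjective S)
    obtain ⟨g, hg⟩ := IsCyclic.exists_generator (α := A)
    have hgp : g ^ q = 1 := Subtype.ext (hAexp g g.2)
    have hdvd : Nat.card A ∣ q := by
      rw [← orderOf_eq_card_of_forall_mem_zpowers hg]; exact orderOf_dvd_of_pow_eq_one hgp
    obtain ⟨k, hk⟩ := IsPGroup.iff_card.1 hAp
    have hk0 : k ≠ 0 := fun h' => hA1 (Subgroup.card_eq_one.1 (by rw [hk, h', pow_zero]))
    have hpq : p = q := (Nat.prime_dvd_prime_iff_eq hp hq).1 ((dvd_pow_self p hk0).trans (hk ▸ hdvd))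
    exact Nat.dvd_antisymm (hpq ▸ hdvd) (hk ▸ dvd_pow_self p hk0)
  rw [hsylow P, ← hQ]
  suffices hQA : Q ≤ A by
    rw [le_antisymm hQA hAQ, hAcard]
  -- the centre of `Q` is `A`
  set Z := (Subgroup.center Q).map Q.subtype with hZ
  haveI hZn : Z.Normal := by
    haveI : (Subgroup.center Q).Characteristic := inferInstance
    infer_instance
  have hZc : IsMulCommutative Z := ⟨⟨fun x y => by
    obtain ⟨x', hx', hxe⟩ := Subgroup.mem_map.1 x.2
    obtain ⟨y', -, hye⟩ := Subgroup.mem_map.1 y.2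
    refine Subtype.ext ?_
    show (x : G ⧸ N) * y = y * x
    rw [← hxe, ← hye]
    exact congrArg Subtype.val (Subgroup.mem_center_iff.1 hx' y').symm⟩⟩
  have hZp : IsPGroup p Z := hQp.to_le (Subgroup.map_subtype_le _)
  have hZA : Z ≤ A := by
    intro z hz
    obtain ⟨g, rfl⟩ := hπ z
    by_cases hgN : g ∈ N
    · rw [show π g = 1 from (QuotientGroup.eq_one_iff g).2 hgN]; exact one_mem A
    · exact hover g (hsec Z hZn hZp hZc g hz hgN)
  by_contra hQA
  haveI : Group.IsNilpotent Q := hQp.isNilpotent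
  haveI : Nontrivial Q := (Subgroup.nontrivial_iff_ne_bot Q).2 fun h' => hA1 (le_bot_iff.1 (h' ▸ hAQ))
  have hZ1 : Z ≠ ⊥ := by
    rw [hZ, Ne, Subgroup.map_eq_bot_iff_of_injective _ Q.subtype_injective]
    exact fun h' => (Subgroup.nontrivial_iff_ne_bot _).1 (hQp.center_nontrivial) h'
  have hZeq : Z = A := (hAmin Z hZn hZA).resolve_left hZ1
  have hZQ : Subgroup.center Q ≠ ⊤ := fun h' => hQA (by
    rw [← hZeq, hZ, h', ← MonoidHom.range_eq_map, Subgroup.range_subtype])
  -- an element of the second centre outside the centre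
  obtain ⟨y, hy, hyZ⟩ : ∃ y : Q, (∀ g : Q, ⁅y, g⁆ ∈ Subgroup.center Q) ∧ y ∉ Subgroup.center Q := by
    haveI : Nontrivial (Q ⧸ Subgroup.center Q) := by
      rw [← Finite.one_lt_card_iff_nontrivial, ← Subgroup.index_eq_card]
      exact Subgroup.one_lt_index_of_ne_top hZQ
    obtain ⟨w, hw, hw1⟩ := (Subgroup.bot_or_exists_ne_one _).resolve_left
      ((Subgroup.nontrivial_iff_ne_bot _).1 ((hQp.to_quotient (Subgroup.center Q)).center_nontrivial))
    obtain ⟨y, rfl⟩ := QuotientGroup.mk'_surjective _ w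
    refine ⟨y, fun g => ?_, fun h' => hw1 ((QuotientGroup.eq_one_iff y).2 h')⟩
    rw [← QuotientGroup.eq_one_iff, ← QuotientGroup.mk'_apply, map_commutatorElement,
      commutatorElement_eq_one_iff_mul_comm]
    exact (Subgroup.mem_center_iff.1 hw _).symm
  -- a character faithful on the centre
  haveI := Fintype.ofFinite (G ⧸ N)
  haveI := Fintype.ofFinite Q
  have hcard : Nat.card (Subgroup.center Q) = p := by
    rw [← hAcard, ← hZeq, hZ, Subgroup.card_map_of_injective Q.subtype_injective]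
  obtain ⟨c, hc, hc1⟩ := (Subgroup.bot_or_exists_ne_one (Subgroup.center Q)).resolve_left fun h' =>
    hp.one_lt.ne' (by rw [← hcard, h', Subgroup.card_bot])
  obtain ⟨ψ, hψ, hψc⟩ : ∃ ψ : Q → ℂ, Cfsg.IsIrrCharacter Q ψ ∧ ψ c ≠ ψ 1 := by
    by_contra hno
    push Not at hno
    exact hc1 (isConj_one_left.1 ((isConj_iff_irr_eq c 1).2 hno))
  have hker : ∀ d ∈ Subgroup.center Q, ψ d = ψ 1 → d = 1 := by
    intro d hd hd1
    by_contra hne
    haveI : Fact (Nat.card (Subgroup.center Q)).Prime := ⟨hcard ▸ hp⟩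
    let K := (kerSubgroup (IsIrrCharacter.isCharacter hψ)).subgroupOf (Subgroup.center Q)
    rcases Subgroup.eq_bot_or_eq_top_of_prime_card K with hK | hK
    · exact hne (congrArg Subtype.val (Subgroup.mem_bot.1 (show (⟨d, hd⟩ : Subgroup.center Q) ∈ (⊥ : Subgroup _) from hK ▸ (hd1 : (⟨d, hd⟩ : Subgroup.center Q) ∈ K))))
    · exact hψc (show (⟨c, hc⟩ : Subgroup.center Q) ∈ K from hK ▸ Subgroup.mem_top _)
  have hvan : ∀ y : Q, (∀ g : Q, ⁅y, g⁆ ∈ Subgroup.center Q) → y ∉ Subgroup.center Q → ψ y = 0 := by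
    intro y hy hyZ
    obtain ⟨g, hg⟩ : ∃ g : Q, ⁅y, g⁆ ≠ 1 := by
      by_contra hno
      push Not at hno
      exact hyZ (Subgroup.mem_center_iff.2 fun g =>
        (commutatorElement_eq_one_iff_mul_comm.1 (hno g)).symm)
    have h1 := IsIrrCharacter.apply_center_mul hψ ((Subgroup.center Q).inv_mem (hy g)) y
    rw [show (⁅y, g⁆)⁻¹ * y = g * y * g⁻¹ by rw [commutatorElement_def]; group,
      IsIrrCharacter.isClassFunction hψ y g] at h1
    by_contra h0
    have h2 := (div_eq_one_iff_eq (IsIrrCharacter.apply_one_ne_zero hψ)).1 ((mul_eq_right₀ h0).1 h1.symm)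
    exact hg (inv_eq_one.1 (hker _ ((Subgroup.center Q).inv_mem (hy g)) h2))
  obtain ⟨χ, hχ, hχc⟩ := exists_over Q hψ
  have hχy : χ (y : G ⧸ N) = 0 := by
    have h1 := congrFun (restrict_eq_smul_sum hχ hψ hχc) y
    rw [Pi.smul_apply, Finset.sum_apply] at h1
    rw [h1, Finset.sum_eq_zero, smul_zero]
    intro φ hφ
    obtain ⟨g, rfl⟩ := mem_conjOrbit.1 hφ
    rw [conjOn_apply]
    set e : Q ≃* Q := MulAut.conjNormal g
    have he : (⟨g * y * g⁻¹, hQn.conj_mem _ y.2 g⟩ : Q) = e y := Subtype.ext (by simp [e])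
    rw [he]
    refine hvan _ (fun z => ?_) fun h' => hyZ ?_
    · obtain ⟨z, rfl⟩ := e.surjective z
      rw [← map_commutatorElement]
      exact (Subgroup.Characteristic.fixed (H := Subgroup.center Q) inferInstance e).ge (hy z)
    · exact (Subgroup.Characteristic.fixed (H := Subgroup.center Q) inferInstance e).le h'
  obtain ⟨g, hg⟩ := hπ (y : G ⧸ N)
  have hgpv : PV p g := by
    refine PV.of_quotient N ⟨?_, χ, hχ, by rw [← QuotientGroup.mk'_apply, ← hπdef, hg]; exact hχy⟩
    rw [← QuotientGroup.mk'_apply, ← hπdef, hg, Subgroup.orderOf_coe]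
    obtain ⟨k, hk⟩ := IsPGroup.iff_orderOf.1 hQp y
    rw [hk]
    refine dvd_pow_self p fun h' => hyZ ?_
    rw [h', pow_zero, orderOf_eq_one_iff] at hk
    rw [hk]; exact one_mem _
  refine hyZ ?_
  have h4 : (y : G ⧸ N) ∈ Z := by rw [hZeq, ← hg]; exact hover g hgpv
  obtain ⟨y', hy', hye⟩ := Subgroup.mem_map.1 h4
  rwa [← Subtype.ext hye]

end CfsgLib.Vanishing
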